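import Cfsg.Agent.H844.K5.Base
import Cfsg.Agent.S4570
import Cfsg.Agent.H595.AbCount
import Cfsg.Agent.GH.EFrameAct

/-!
# S4874, `p = 2`, T19: abelian Sylow 2-subgroups of order 8

`k(B₀) = 5`, `l(B₀) ≥ 2`, `P` abelian of order 8.  Every involution has weight 2 (S4570), the classes of `G` meet `P`
in sets of odd size, so all the involutions are conjugate and `P` is elementary abelian, 7 divides `|N(P) : C(P)|`;
if it is 7 the centralizers of the involutions have normal 2-complements, so it is 21.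
-/

set_option autoImplicit false

open Cfsg Subgroup Cfsg.Agent.H844.K5

namespace Cfsg.Agent.H166.K5.AbelA

universe u

variable {G : Type u} [Group G] [Finite G] {M : Ideal AlgInt}

/-- Involutions have weight two. -/
theorem wt_involution (hM : IsPModular 2 M) (h : Five M G) (P : Sylow 2 G) (hP : Nat.card (P : Subgroup G) = 8)
    (hab : ∀ a ∈ P, ∀ b ∈ P, a * b = b * a) {x : G} (hx : orderOf x = 2) : wt x = 2 := by
  have : Fact (Nat.Prime 2) := ⟨Nat.prime_two⟩
  apply wt_eq_two
  intro hc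
  have : Fintype ↥(Subgroup.centralizer ({x} : Set G)) := Fintype.ofFinite _
  have h1 := S4646.rank_one_of_compl hM hc
  have h2 := (S4570.result M hM P ⟨⟨fun a b => Subtype.ext (hab a a.2 b b.2)⟩⟩ x hx h1).1 hP
  rw [h.card] at h2
  omega

/-- The number of elements of `P` conjugate to `x`. -/
theorem ncard_class (P : Sylow 2 G) (hab : ∀ a ∈ P, ∀ b ∈ P, a * b = b * a) {x : G} (hx : x ∈ P) :
    {y : G | y ∈ P ∧ IsConj x y}.ncard =
      (centralizer ({x} : Set G)).relIndex (normalizer ((P : Subgroup G) : Set G)) := by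
  have : Fact (Nat.Prime 2) := ⟨Nat.prime_two⟩
  set N := Subgroup.normalizer ((P : Subgroup G) : Set G) with hNd
  let _ : MulAction N G := MulAction.compHom G ((MulAut.conj : G →* MulAut G).comp N.subtype)
  have hsmul : ∀ (g : N) (y : G), g • y = g * y * (g : G)⁻¹ := fun g y => rfl
  have h1 : MulAction.orbit N x = {y : G | y ∈ P ∧ IsConj x y} := by
    ext y
    constructor
    · rintro ⟨g, hg⟩
      have hg' : (g : G) * x * (g : G)⁻¹ = y := hg
      refine ⟨?_, isConj_iff.2 ⟨g, hg'⟩⟩
      rw [← hg']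
      exact (Subgroup.mem_normalizer_iff.1 g.2 x).1 hx
    · rintro ⟨hy, hxy⟩
      obtain ⟨g, hg, hgy⟩ := H634.TwoA.burnside P hab hx hy hxy
      exact ⟨⟨g, hg⟩, hgy⟩
  have h2 : MulAction.stabilizer N x = (Subgroup.centralizer ({x} : Set G)).subgroupOf N := by
    ext g
    rw [MulAction.mem_stabilizer_iff, hsmul, Subgroup.mem_subgroupOf, Subgroup.mem_centralizer_singleton_iff,
      mul_inv_eq_iff_eq_mul]
  rw [← h1, ← MulAction.index_stabilizer, h2]
  rfl

theorem odd_ncard_class (P : Sylow 2 G) (hab : ∀ a ∈ P, ∀ b ∈ P, a * b = b * a) {x : G} (hx : x ∈ P) :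
    Odd {y : G | y ∈ P ∧ IsConj x y}.ncard := by
  have : Fact (Nat.Prime 2) := ⟨Nat.prime_two⟩
  rw [ncard_class P hab hx, ← Nat.not_even_iff_odd, even_iff_two_dvd]
  intro h2
  have h1 : (P : Subgroup G) ≤ centralizer ({x} : Set G) := by
    intro a ha
    rw [mem_centralizer_singleton_iff]
    exact hab a ha x hx
  exact P.not_dvd_index ((h2.trans (relIndex_dvd_of_le_left _ h1)).trans
    (relIndex_dvd_index_of_le (le_normalizer)))

omit [Finite G] in
theorem el_of_mem (P : Sylow 2 G) {x : G} (hx : x ∈ P) (hx1 : x ≠ 1) : El x := by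
  have : Fact (Nat.Prime 2) := ⟨Nat.prime_two⟩
  refine ⟨?_, hx1⟩
  obtain ⟨k, hk⟩ := IsPGroup.iff_orderOf.1 P.isPGroup' ⟨x, hx⟩
  exact ⟨k, by rw [← hk, Subgroup.orderOf_mk]⟩

/-- All the nontrivial elements of `P` are conjugate. -/
theorem conj_all (hM : IsPModular 2 M) (h : Five M G) (P : Sylow 2 G) (hP : Nat.card (P : Subgroup G) = 8)
    (hab : ∀ a ∈ P, ∀ b ∈ P, a * b = b * a) {x : G} (hx : orderOf x = 2) (hxP : x ∈ P) :
    {y : G | y ∈ P ∧ IsConj x y} = ((P : Subgroup G) : Set G) \ {1} := by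
  classical
  have : Fact (Nat.Prime 2) := ⟨Nat.prime_two⟩
  have hx1 : x ≠ 1 := by
    rintro rfl
    rw [orderOf_one] at hx
    omega
  have h7 : (((P : Subgroup G) : Set G) \ {1}).ncard = 7 := by
    have h71 : (1 : G) ∈ ((P : Subgroup G) : Set G) := one_mem (P : Subgroup G)
    rw [Set.ncard_sdiff_singleton_of_mem h71, ← Nat.card_coe_set_eq]
    have : Nat.card ↑((P : Subgroup G) : Set G) = 8 := hP
    rw [this]
  have hsub : ∀ z : G, z ≠ 1 → {y : G | y ∈ P ∧ IsConj z y} ⊆ ((P : Subgroup G) : Set G) \ {1} := by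
    rintro z hz y ⟨hy, hzy⟩
    refine ⟨hy, ?_⟩
    rintro rfl
    exact hz (isConj_one_left.1 hzy)
  by_contra hne
  obtain ⟨z, ⟨hzP, hz1⟩, hz⟩ : ∃ z ∈ ((P : Subgroup G) : Set G) \ {1}, z ∉ {y : G | y ∈ P ∧ IsConj x y} := by
    by_contra hcon
    push Not at hcon
    exact hne (Set.Subset.antisymm (hsub x hx1) hcon)
  have hz1' : z ≠ 1 := hz1
  have hxz : ¬ IsConj x z := fun hc => hz ⟨hzP, hc⟩
  have hdis : Disjoint {y : G | y ∈ P ∧ IsConj x y} {y : G | y ∈ P ∧ IsConj z y} := by
    rw [Set.disjoint_left]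
    rintro y ⟨-, h1⟩ ⟨-, h2⟩
    exact hxz (h1.trans h2.symm)
  have hun := Set.ncard_union_eq hdis (Set.toFinite _) (Set.toFinite _)
  obtain ⟨a, ha⟩ := odd_ncard_class P hab hxP
  obtain ⟨b, hb⟩ := odd_ncard_class P hab hzP
  obtain ⟨w, ⟨hwP, hw1⟩, hw⟩ : ∃ w ∈ ((P : Subgroup G) : Set G) \ {1},
      w ∉ {y : G | y ∈ P ∧ IsConj x y} ∪ {y : G | y ∈ P ∧ IsConj z y} := by
    by_contra hcon
    push Not at hcon
    have h8 : {y : G | y ∈ P ∧ IsConj x y} ∪ {y : G | y ∈ P ∧ IsConj z y} = ((P : Subgroup G) : Set G) \ {1} :=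
      Set.Subset.antisymm (Set.union_subset (hsub x hx1) (hsub z hz1')) hcon
    rw [h8, h7] at hun
    omega
  have hw1' : w ≠ 1 := hw1
  have hxw : ¬ IsConj x w := fun hc => hw (Or.inl ⟨hwP, hc⟩)
  have hzw : ¬ IsConj z w := fun hc => hw (Or.inr ⟨hwP, hc⟩)
  have h3 := h.sum_wt_le hM {x, z, w}
    (by
      intro y hy
      simp only [Finset.mem_insert, Finset.mem_singleton] at hy
      rcases hy with rfl | rfl | rfl
      · exact el_of_mem P hxP hx1
      · exact el_of_mem P hzP hz1'
      · exact el_of_mem P hwP hw1')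
    (by
      intro y hy y' hy' hc
      simp only [Finset.mem_insert, Finset.mem_singleton] at hy hy'
      rcases hy with rfl | rfl | rfl <;> rcases hy' with rfl | rfl | rfl <;>
        first
          | rfl
          | exact absurd hc hxz
          | exact absurd hc hxw
          | exact absurd hc hzw
          | exact absurd hc.symm hxz
          | exact absurd hc.symm hxw
          | exact absurd hc.symm hzw)
  have hxz' : x ≠ z := fun hc => hxz (hc ▸ IsConj.refl _)
  have hxw' : x ≠ w := fun hc => hxw (hc ▸ IsConj.refl _)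
  have hzw' : z ≠ w := fun hc => hzw (hc ▸ IsConj.refl _)
  rw [Finset.sum_insert (by simp [hxz', hxw']), Finset.sum_pair hzw', wt_involution hM h P hP hab hx] at h3
  have := one_le_wt z
  have := one_le_wt w
  omega

/-- **ABEL8-a.** -/
theorem abel_a (hM : IsPModular 2 M) (h : Five M G) (P : Sylow 2 G) (hP : Nat.card (P : Subgroup G) = 8)
    (hab : ∀ a ∈ P, ∀ b ∈ P, a * b = b * a) :
    (centralizer ((P : Subgroup G) : Set G)).relIndex (normalizer ((P : Subgroup G) : Set G)) = 21 := by
  classical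
  have hfact : Fact (Nat.Prime 2) := ⟨Nat.prime_two⟩
  obtain ⟨⟨x, hxP⟩, hx0⟩ := exists_prime_orderOf_dvd_card' (G := (P : Subgroup G)) 2 (by rw [hP]; norm_num)
  have hx : orderOf x = 2 := by rw [← hx0, Subgroup.orderOf_mk]
  have hx1 : x ≠ 1 := by
    rintro rfl
    rw [orderOf_one] at hx
    omega
  have hall := conj_all hM h P hP hab hx hxP
  have h7 : (((P : Subgroup G) : Set G) \ {1}).ncard = 7 := by
    have h71 : (1 : G) ∈ ((P : Subgroup G) : Set G) := one_mem (P : Subgroup G)
    rw [Set.ncard_sdiff_singleton_of_mem h71, ← Nat.card_coe_set_eq]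
    have : Nat.card ↑((P : Subgroup G) : Set G) = 8 := hP
    rw [this]
  have hi7 : (centralizer ({x} : Set G)).relIndex (normalizer ((P : Subgroup G) : Set G)) = 7 := by
    rw [← ncard_class P hab hxP, hall, h7]
  -- `P` is elementary abelian
  have hsq : ∀ y ∈ P, y ^ 2 = 1 := by
    intro y hy
    by_cases hy1 : y = 1
    · rw [hy1, one_pow]
    have h1 : y ∈ ((P : Subgroup G) : Set G) \ {1} := ⟨hy, hy1⟩
    rw [← hall] at h1
    obtain ⟨c, hc⟩ := isConj_iff.1 h1.2
    rw [← hc, conj_pow, ← hx, pow_orderOf_eq_one, mul_one, mul_inv_cancel]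
  -- the order of the automizer
  let _ : CommGroup (P : Subgroup G) := { (inferInstance : Group (P : Subgroup G)) with
    mul_comm := fun a b => Subtype.ext (hab a a.2 b b.2) }
  have h168 : Nat.card (MulAut (P : Subgroup G)) = 168 :=
    GH.EFrameAct.card_mulAut_eight (fun y => Subtype.ext (hsq y y.2)) hP
  have hdvd : (centralizer ((P : Subgroup G) : Set G)).relIndex (normalizer ((P : Subgroup G) : Set G)) ∣ 168 := by
    have h1 := Subgroup.normalizerMonoidHom_ker (P : Subgroup G)
    rw [relIndex, ← h1, Subgroup.index_ker, ← h168]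
    exact Subgroup.card_subgroup_dvd_card _
  have hPC : (P : Subgroup G) ≤ centralizer ((P : Subgroup G) : Set G) := by
    intro a ha
    rw [mem_centralizer_iff]
    intro b hb
    exact hab b hb a ha
  have hodd : ¬ 2 ∣ (centralizer ((P : Subgroup G) : Set G)).relIndex (normalizer ((P : Subgroup G) : Set G)) :=
    fun h2 => P.not_dvd_index ((h2.trans (relIndex_dvd_of_le_left _ hPC)).trans
      (relIndex_dvd_index_of_le (le_normalizer)))
  have h7d : 7 ∣ (centralizer ((P : Subgroup G) : Set G)).relIndex (normalizer ((P : Subgroup G) : Set G)) := by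
    rw [← hi7]
    exact relIndex_dvd_of_le_left _ (centralizer_le (Set.singleton_subset_iff.2 hxP))
  have hn7 : (centralizer ((P : Subgroup G) : Set G)).relIndex (normalizer ((P : Subgroup G) : Set G)) ≠ 7 := by
    intro he
    have h1 : ¬ normalizer ((P : Subgroup G) : Set G) ≤ centralizer ({x} : Set G) := by
      intro hle
      rw [relIndex_eq_one.2 hle] at hi7
      omega
    have h2 := H595.AbCount.hnc_centralizer P hab hxP he (by norm_num) h1
    have h3 := wt_involution hM h P hP hab hx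
    unfold wt at h3
    rw [if_pos h2] at h3
    omega
  generalize (centralizer ((P : Subgroup G) : Set G)).relIndex (normalizer ((P : Subgroup G) : Set G)) = e
    at hdvd hodd h7d hn7
  obtain ⟨m, rfl⟩ := h7d
  have hm : m ∣ 24 := Nat.dvd_of_mul_dvd_mul_left (k := 7) (by norm_num) (by norm_num; exact hdvd)
  have hm2 : m ≤ 24 := Nat.le_of_dvd (by norm_num) hm
  interval_cases m <;> omega

end Cfsg.Agent.H166.K5.AbelA
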